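import Groth.Agent.Lib.CohDelta.KS.Cat
import Mathlib.Data.List.Perm.Basic

/-!
# Cancellation of powers in a Krull–Schmidt situation
-/

set_option autoImplicit false
universe w v u

open CategoryTheory CategoryTheory.Limits ZeroObject

noncomputable section

namespace Groth.Agent.Lib.CohDelta.KS

variable {C : Type u} [Category.{v} C] [Abelian C]

lemma iso_of_cls_perm : ∀ {l m : List C}, (l.map cls).Perm (m.map cls) → Nonempty (bsum l ≅ bsum m)
  | [], m, h => by
    have : m = [] := List.map_eq_nil_iff.mp (List.nil_perm.mp h)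
    subst this
    exact ⟨Iso.refl _⟩
  | a :: l, m, h => by
    obtain ⟨b, hb, hab⟩ := List.mem_map.mp (h.subset (List.mem_cons_self : cls a ∈ cls a :: l.map cls))
    obtain ⟨m₁, m₂, rfl⟩ := List.append_of_mem hb
    have hp : (m₁ ++ b :: m₂).Perm (b :: (m₁ ++ m₂)) := List.perm_middle
    have h' := h.trans (hp.map cls)
    rw [List.map_cons, List.map_cons, hab] at h'
    obtain ⟨e⟩ := iso_of_cls_perm (List.Perm.cons_inv h')
    exact ⟨biprod.mapIso (Quotient.exact hab : Nonempty (b ≅ a)).some.symm e ≪≫ (bsum_perm hp).some.symm⟩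

lemma bsum_flatten : ∀ ll : List (List C), Nonempty (bsum (ll.map bsum) ≅ bsum ll.flatten)
  | [] => ⟨Iso.refl _⟩
  | l :: ll => by
    rw [List.flatten_cons]
    exact ⟨biprod.mapIso (Iso.refl _) (bsum_flatten ll).some ≪≫ (bsum_append _ _).some⟩

lemma bsum_ext {l l' : List C} (h : l = l') : Nonempty (bsum l ≅ bsum l') := ⟨eqToIso (by rw [h])⟩

/-- The decomposition of a power. -/
lemma pow_iso {F : C} {l : List C} (e : F ≅ bsum l) (d : ℕ) :
    Nonempty ((∐ fun _ : Fin d => F) ≅ bsum (List.replicate d l).flatten) := by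
  have e₁ : (∐ fun _ : Fin d => F) ≅ ∐ fun _ : Fin d => bsum l := Sigma.mapIso fun _ => e
  have e₂ := (bsum_ofFn fun _ : Fin d => bsum l).some
  have e₃ := (bsum_ext (show List.ofFn (fun _ : Fin d => bsum l) = (List.replicate d l).map bsum by
    rw [List.ofFn_const, List.map_replicate])).some
  exact ⟨e₁ ≪≫ e₂.symm ≪≫ e₃ ≪≫ (bsum_flatten _).some⟩

lemma count_flatten_replicate {α : Type*} [DecidableEq α] (d : ℕ) (l : List α) (a : α) :
    (List.replicate d l).flatten.count a = d * l.count a := by
  induction d with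
  | zero => simp
  | succ d ih => rw [List.replicate_succ, List.flatten_cons, List.count_append, ih]; ring

/-- Powers cancel. -/
theorem iso_of_pow_iso {F G : C} {l m : List C} (hl : ∀ S ∈ l, Good S) (hm : ∀ S ∈ m, Good S)
    (eF : F ≅ bsum l) (eG : G ≅ bsum m) {d : ℕ} (hd : 0 < d)
    (e : (∐ fun _ : Fin d => F) ≅ ∐ fun _ : Fin d => G) : Nonempty (F ≅ G) := by
  classical
  have hg : ∀ (l : List C), (∀ S ∈ l, Good S) → ∀ S ∈ (List.replicate d l).flatten, Good S :=
    fun l hl S hS => by
      obtain ⟨l', hl', hS'⟩ := List.mem_flatten.mp hS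
      rw [List.eq_of_mem_replicate hl'] at hS'
      exact hl S hS'
  have hp := decomposition_unique (hg l hl) (hg m hm)
    ((pow_iso eF d).some.symm ≪≫ e ≪≫ (pow_iso eG d).some)
  rw [List.map_flatten, List.map_flatten, List.map_replicate, List.map_replicate] at hp
  have h : (l.map cls).Perm (m.map cls) := List.perm_iff_count.mpr fun a => by
    have := hp.count_eq a
    rw [count_flatten_replicate, count_flatten_replicate] at this
    exact Nat.eq_of_mul_eq_mul_left hd this
  exact ⟨eF ≪≫ (iso_of_cls_perm h).some ≪≫ eG.symm⟩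

end Groth.Agent.Lib.CohDelta.KS
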