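import Mathlib.CategoryTheory.Preadditive.Biproducts
import Mathlib.CategoryTheory.Idempotents.Basic
import Mathlib.CategoryTheory.Abelian.Basic
import Mathlib.CategoryTheory.Linear.Basic
import Mathlib.LinearAlgebra.FiniteDimensional.Basic
import Mathlib.RingTheory.IntegralClosure.IsIntegral.Basic
import Mathlib.FieldTheory.Minpoly.Field
import Mathlib.Data.List.FinRange
import Mathlib.Logic.Equiv.Fintype

/-!
# Krull–Schmidt in an abelian category
-/

set_option autoImplicit false
universe w v u

open CategoryTheory CategoryTheory.Limits Polynomial ZeroObject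

noncomputable section

namespace Groth.Agent.Lib.CohDelta.KS

/-- In a finite dimensional algebra with only trivial idempotents every element is a unit or nilpotent. -/
theorem isUnit_or_isNilpotent {k : Type u} [Field k] {R : Type v} [Ring R] [Algebra k R]
    [FiniteDimensional k R] (hi : ∀ e : R, IsIdempotentElem e → e = 0 ∨ e = 1) (a : R) :
    IsUnit a ∨ IsNilpotent a := by
  rcases subsingleton_or_nontrivial R with hR | hR
  · exact Or.inr ⟨1, Subsingleton.elim _ _⟩
  have ha : _root_.IsIntegral k a := IsIntegral.of_finite k a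
  have hp : minpoly k a ≠ 0 := minpoly.ne_zero ha
  obtain ⟨q, hq, hnd⟩ := exists_eq_pow_rootMultiplicity_mul_and_not_dvd (minpoly k a) hp 0
  simp only [map_zero, sub_zero] at hq hnd
  set m := (minpoly k a).rootMultiplicity 0
  have hcop : IsCoprime ((X : k[X]) ^ m) q :=
    IsCoprime.pow_left (irreducible_X.coprime_iff_not_dvd.mpr hnd)
  obtain ⟨u, w, huw⟩ := hcop
  set Φ := (aeval a : k[X] →ₐ[k] R)
  have hzero : Φ (X ^ m * q) = 0 := by rw [← hq]; exact minpoly.aeval k a
  have hsum : Φ (u * X ^ m) + Φ (w * q) = 1 := by rw [← map_add, huw, map_one]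
  have hidem : IsIdempotentElem (Φ (w * q)) := by
    rw [IsIdempotentElem]
    calc Φ (w * q) * Φ (w * q) = Φ (w * q) * Φ (w * q) + Φ (u * X ^ m) * Φ (w * q) := by
          have h3 : Φ (u * X ^ m) * Φ (w * q) = 0 := by
            rw [← map_mul, show u * X ^ m * (w * q) = w * u * (X ^ m * q) by ring, map_mul, hzero,
              mul_zero]
          rw [h3, add_zero]
      _ = (Φ (u * X ^ m) + Φ (w * q)) * Φ (w * q) := by rw [add_mul, add_comm]
      _ = Φ (w * q) := by rw [hsum, one_mul]
  rcases hi _ hidem with h0 | h1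
  · rw [h0, add_zero] at hsum
    rcases Nat.eq_zero_or_pos m with hm | hm
    · -- `q = minpoly`, so `Φ q = 0` and the constant term is nonzero
      rw [hm, pow_zero, one_mul] at hq
      have hc : (minpoly k a).coeff 0 ≠ 0 := fun h => hnd (by rw [← hq]; exact X_dvd_iff.mpr h)
      left
      have e := minpoly.aeval k a
      rw [← X_mul_divX_add (minpoly k a), map_add, map_mul, aeval_X, aeval_C] at e
      set c := (minpoly k a).coeff 0
      set d := aeval a (divX (minpoly k a))
      have hu : IsUnit (algebraMap k R (-c)) := ((neg_ne_zero.mpr hc).isUnit).map _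
      have e1 : a * d = algebraMap k R (-c) := by rw [map_neg]; exact eq_neg_of_add_eq_zero_left e
      have hcomm : a * d = d * a := by
        have h1 : d * a = Φ (divX (minpoly k a) * X) := by rw [map_mul, aeval_X]
        rw [h1, mul_comm (divX (minpoly k a)) X, map_mul, aeval_X]
      obtain ⟨v, hv⟩ := hu
      exact ⟨⟨a, d * ↑v⁻¹, by rw [← mul_assoc, e1, ← hv, Units.mul_inv], by
        rw [← hv] at e1
        have h2 : (↑v⁻¹ : R) * d = d * ↑v⁻¹ := by
          have : (↑v : R) * d = d * ↑v := by rw [hv]; exact Algebra.commutes _ _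
          calc (↑v⁻¹ : R) * d = ↑v⁻¹ * (d * ↑v) * ↑v⁻¹ := by rw [mul_assoc, mul_assoc, Units.mul_inv, mul_one]
            _ = d * ↑v⁻¹ := by rw [← this, ← mul_assoc, Units.inv_mul, one_mul]
        rw [← h2, mul_assoc, ← hcomm, e1, Units.inv_mul]⟩, rfl⟩
    · exfalso
      have hq0 : Φ q = 0 := by
        rw [← one_mul (Φ q), ← hsum, ← map_mul, show u * X ^ m * q = u * (X ^ m * q) by ring, map_mul,
          hzero, mul_zero]
      exact hnd (((dvd_pow_self _ hm.ne').trans ⟨q, hq⟩).trans (minpoly.dvd k a hq0))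
  · refine Or.inr ⟨m, ?_⟩
    have : Φ (X ^ m) = 0 := by
      rw [← one_mul (Φ (X ^ m)), ← h1, ← map_mul,
        show w * q * X ^ m = w * (X ^ m * q) by ring, map_mul, hzero, mul_zero]
    rwa [map_pow, aeval_X] at this

variable {C : Type u} [Category.{v} C] [Abelian C]

/-- Only trivial splittings. -/
def Ind (E : C) : Prop :=
  ¬ IsZero E ∧ ∀ (E₁ E₂ : C), Nonempty (E ≅ E₁ ⊞ E₂) → IsZero E₁ ∨ IsZero E₂

lemma idempotent_trivial {E : C} (h : Ind E) (e : E ⟶ E) (he : e ≫ e = e) :
    e = 0 ∨ e = 𝟙 E := by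
  have he' : (𝟙 E - e) ≫ (𝟙 E - e) = 𝟙 E - e := by
    simp only [Preadditive.sub_comp, Preadditive.comp_sub, Category.id_comp, Category.comp_id, he]
    abel
  obtain ⟨A, i, p, hip, hpi⟩ := IsIdempotentComplete.idempotents_split E e he
  obtain ⟨B, j, q, hjq, hqj⟩ := IsIdempotentComplete.idempotents_split E (𝟙 E - e) he'
  have hiq : i ≫ q = 0 := by
    have : i ≫ (q ≫ j) = 0 := by
      rw [hqj, ← hpi, Preadditive.comp_sub, Category.comp_id, ← Category.assoc, hip, Category.id_comp,
        sub_self]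
    rw [← Category.comp_id (i ≫ q), ← hjq, ← Category.assoc, Category.assoc i q j, this, Limits.zero_comp]
  have hjp : j ≫ p = 0 := by
    have : j ≫ (p ≫ i) = 0 := by
      have h1 : j ≫ q ≫ j = j := by rw [← Category.assoc, hjq, Category.id_comp]
      rw [hqj, Preadditive.comp_sub, Category.comp_id, sub_eq_self] at h1
      rw [hpi, h1]
    rw [← Category.comp_id (j ≫ p), ← hip, ← Category.assoc, Category.assoc j p i, this, Limits.zero_comp]
  let iso : E ≅ A ⊞ B :=
    { hom := biprod.lift p q
      inv := biprod.desc i j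
      hom_inv_id := by rw [biprod.lift_desc, hpi, hqj]; abel
      inv_hom_id := by
        apply biprod.hom_ext <;> apply biprod.hom_ext' <;>
          simp only [Category.assoc, biprod.lift_fst, biprod.lift_snd, biprod.inl_desc_assoc,
            biprod.inr_desc_assoc, Category.id_comp, hip, hjq, hiq, hjp, biprod.inl_fst,
            biprod.inl_snd, biprod.inr_fst, biprod.inr_snd, biprod.inl_desc, biprod.inr_desc] }
  rcases h.2 A B ⟨iso⟩ with hA | hB
  · exact Or.inl (by rw [← hpi, hA.eq_of_src i 0, Limits.comp_zero])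
  · refine Or.inr (sub_eq_zero.mp ?_).symm
    rw [← hqj, hB.eq_of_src j 0, Limits.comp_zero]

/-- Indecomposable with local endomorphism ring. -/
def Good (S : C) : Prop :=
  Ind S ∧ ∀ f g : S ⟶ S, IsIso (f + g) → IsIso f ∨ IsIso g

/-- Finite dimensional endomorphisms of an indecomposable object form a local ring. -/
theorem good_of_finite {k : Type w} [Field k] [Linear k C] {S : C} (hS : Ind S)
    [FiniteDimensional k (S ⟶ S)] : Good S := by
  refine ⟨hS, fun f₁ f₂ h => ?_⟩
  haveI : FiniteDimensional k (End S) := inferInstanceAs (FiniteDimensional k (S ⟶ S))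
  let g : S ⟶ S := f₁ ≫ inv (f₁ + f₂)
  let g' : S ⟶ S := f₂ ≫ inv (f₁ + f₂)
  have hgg : g + g' = 𝟙 S := by rw [← Preadditive.add_comp, IsIso.hom_inv_id]
  rcases isUnit_or_isNilpotent (k := k) (R := End S) (fun e he => idempotent_trivial hS e he.eq) g with hu | hn
  · have := (isUnit_iff_isIso _).mp hu
    exact Or.inl (IsIso.of_isIso_comp_right f₁ (inv (f₁ + f₂)))
  · have hu : IsUnit ((1 : End S) - (show End S from g)) := hn.isUnit_one_sub
    have := (isUnit_iff_isIso _).mp hu
    have e : g' = (1 : End S) - (show End S from g) := by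
      show g' = 𝟙 S - g
      rw [← hgg, add_sub_cancel_left]
    have : IsIso g' := e ▸ this
    exact Or.inr (IsIso.of_isIso_comp_right f₂ (inv (f₁ + f₂)))

/-- Biproduct of a list. -/
def bsum : List C → C
  | [] => 0
  | a :: l => a ⊞ bsum l

lemma bsum_append : ∀ (l l' : List C), Nonempty (bsum l ⊞ bsum l' ≅ bsum (l ++ l'))
  | [], _ => ⟨(isoZeroBiprod (isZero_zero C)).symm⟩
  | a :: l, l' => ⟨biprod.associator _ _ _ ≪≫ biprod.mapIso (Iso.refl a) (bsum_append l l').some⟩

lemma bsum_ofFn : ∀ {n : ℕ} (F : Fin n → C), Nonempty (bsum (List.ofFn F) ≅ ∐ F)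
  | 0, F => ⟨(isZero_zero C).iso (IsZero.of_iso
      ((IsZero.iff_id_eq_zero _).mpr (Sigma.hom_ext _ _ fun i => i.elim0)) (Iso.refl (∐ F)))⟩
  | n + 1, F => by
    obtain ⟨e⟩ := bsum_ofFn fun i : Fin n => F i.succ
    rw [List.ofFn_succ]
    refine ⟨biprod.mapIso (Iso.refl (F 0)) e ≪≫
      { hom := biprod.desc (Sigma.ι F 0) (Sigma.desc fun i => Sigma.ι F i.succ)
        inv := Sigma.desc fun i => Fin.cases (motive := fun i => F i ⟶ F 0 ⊞ ∐ fun j : Fin n => F j.succ)
          biprod.inl (fun j => Sigma.ι (fun j : Fin n => F j.succ) j ≫ biprod.inr) i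
        hom_inv_id := by
          apply biprod.hom_ext'
          · simp
          · rw [biprod.inr_desc_assoc, Category.comp_id]
            exact Sigma.hom_ext _ _ fun j => by simp
        inv_hom_id := Sigma.hom_ext _ _ fun i => by
          refine Fin.cases ?_ (fun j => ?_) i <;> simp }⟩

lemma bsum_perm {l l' : List C} (h : l.Perm l') : Nonempty (bsum l ≅ bsum l') := by
  induction h with
  | nil => exact ⟨Iso.refl _⟩
  | cons a _ ih => exact ⟨biprod.mapIso (Iso.refl a) ih.some⟩
  | swap a b l =>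
    exact ⟨(biprod.associator b a (bsum l)).symm ≪≫ biprod.mapIso (biprod.braiding b a) (Iso.refl _) ≪≫
      biprod.associator a b (bsum l)⟩
  | trans _ _ ih ih' => exact ⟨ih.some ≪≫ ih'.some⟩

/-- Isomorphism classes. -/
abbrev Cls (C : Type u) [Category.{v} C] : Type u := Quotient (isIsomorphicSetoid C)

/-- The class of an object. -/
def cls (M : C) : Cls C := Quotient.mk _ M

/-- Uniqueness of decompositions. -/
theorem decomposition_unique : ∀ {l l' : List C}, (∀ S ∈ l, Good S) → (∀ S ∈ l', Good S) →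
    (bsum l ≅ bsum l') → (l.map cls).Perm (l'.map cls)
  | [], [], _, _, _ => List.Perm.refl _
  | [], b :: l', _, h', e => by
    refine absurd ?_ (h' b List.mem_cons_self).1.1
    have hz : IsZero (b ⊞ bsum l') := IsZero.of_iso (isZero_zero C) e.symm
    rw [IsZero.iff_id_eq_zero, ← biprod.inl_fst (X := b) (Y := bsum l'), hz.eq_of_tgt biprod.inl 0,
      Limits.zero_comp]
  | a :: l, l', h, h', e => by
    have ha := h a List.mem_cons_self
    have hl : ∀ S ∈ l, Good S := fun S hS => h S (List.mem_cons_of_mem _ hS)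
    have key : ∀ (m : List C), (∀ S ∈ m, Good S) → ∀ (i : a ⟶ bsum m) (r : bsum m ⟶ a),
        IsIso (i ≫ r) → ∃ (T : C) (n : List C) (_ : List.Perm m (T :: n))
          (φ : bsum m ≅ bsum (T :: n)), IsIso (i ≫ φ.hom ≫ biprod.fst) := by
      intro m
      induction m with
      | nil =>
        intro _ i r hir
        refine absurd ((IsZero.iff_id_eq_zero a).mpr ?_) ha.1.1
        have hz : IsZero (bsum ([] : List C)) := isZero_zero C
        have h0 : i ≫ r = 0 := (congrArg (· ≫ r) (hz.eq_of_tgt i 0)).trans Limits.zero_comp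
        exact isIsoZeroSelfEquiv a (h0 ▸ hir)
      | cons b m ih =>
        intro hm i₀ r₀ hir
        let i : a ⟶ b ⊞ bsum m := i₀
        let r : b ⊞ bsum m ⟶ a := r₀
        replace hir : IsIso (i ≫ r) := hir
        have hsum : (i ≫ biprod.fst) ≫ (biprod.inl ≫ r) + (i ≫ biprod.snd) ≫ (biprod.inr ≫ r) =
            i ≫ r := by
          rw [Category.assoc, Category.assoc, ← Preadditive.comp_add, ← Category.assoc biprod.fst,
            ← Category.assoc biprod.snd, ← Preadditive.add_comp]
          exact congrArg (fun φ => i ≫ φ) ((congrArg (· ≫ r) biprod.total).trans (Category.id_comp r))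
        rcases ha.2 _ _ (by rw [hsum]; exact hir) with hb | hb
        · refine ⟨b, m, List.Perm.refl _, Iso.refl _, ?_⟩
          simp only [Iso.refl_hom, Category.id_comp]
          let p : a ⟶ b := i ≫ biprod.fst
          let q : b ⟶ a := (biprod.inl ≫ r) ≫ inv ((i ≫ biprod.fst) ≫ biprod.inl ≫ r)
          have hpq : p ≫ q = 𝟙 a := by
            rw [← Category.assoc]
            exact IsIso.hom_inv_id _
          have hqp : q ≫ p = 𝟙 b := by
            rcases idempotent_trivial (hm b List.mem_cons_self).1 (q ≫ p)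
              (by rw [Category.assoc, ← Category.assoc p q p, hpq, Category.id_comp]) with h0 | h1
            · refine absurd ((IsZero.iff_id_eq_zero a).mpr ?_) ha.1.1
              have : p ≫ (q ≫ p) ≫ q = 𝟙 a := by
                calc p ≫ (q ≫ p) ≫ q = (p ≫ q) ≫ (p ≫ q) := by simp only [Category.assoc]
                  _ = 𝟙 a := by rw [hpq, Category.comp_id]
              rw [← this, h0, Limits.zero_comp, Limits.comp_zero]
            · exact h1
          exact ⟨q, hpq, hqp⟩
        · obtain ⟨T, n, hp, φ, hT⟩ := ih (fun S hS => hm S (List.mem_cons_of_mem _ hS))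
            (i ≫ biprod.snd) (biprod.inr ≫ r) hb
          refine ⟨T, b :: n, (hp.cons b).trans (List.Perm.swap T b n),
            biprod.mapIso (Iso.refl b) φ ≪≫ (biprod.associator b T (bsum n)).symm ≪≫
              biprod.mapIso (biprod.braiding b T) (Iso.refl _) ≪≫ biprod.associator T b (bsum n), ?_⟩
          let φ' : bsum m ≅ T ⊞ bsum n := φ
          have hT2 : IsIso ((i ≫ biprod.snd) ≫ φ'.hom ≫ biprod.fst) := hT
          show IsIso (i ≫ (biprod.mapIso (Iso.refl b) φ' ≪≫ (biprod.associator b T (bsum n)).symm ≪≫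
              biprod.mapIso (biprod.braiding b T) (Iso.refl _) ≪≫
                biprod.associator T b (bsum n)).hom ≫ biprod.fst)
          convert hT2 using 1
          simp
    let e₀ : a ⊞ bsum l ≅ bsum l' := e
    have hiso : IsIso ((biprod.inl ≫ e₀.hom) ≫ (e₀.inv ≫ biprod.fst)) := by
      have h1 : (biprod.inl ≫ e₀.hom) ≫ (e₀.inv ≫ biprod.fst) = 𝟙 a := by simp
      rw [h1]
      infer_instance
    obtain ⟨T, n, hp, φ, hT⟩ := key l' h' (biprod.inl ≫ e₀.hom) (e₀.inv ≫ biprod.fst) hiso
    let φ₀ : bsum l' ≅ T ⊞ bsum n := φ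
    let e' : a ⊞ bsum l ≅ T ⊞ bsum n := e₀ ≪≫ φ₀
    have he' : biprod.inl ≫ e'.hom ≫ biprod.fst = (biprod.inl ≫ e₀.hom) ≫ φ₀.hom ≫ biprod.fst := by
      simp [e', Category.assoc]
    have hT' : IsIso (biprod.inl ≫ e'.hom ≫ biprod.fst) := by rw [he']; exact hT
    have hn : ∀ S ∈ n, Good S := fun S hS => h' S (hp.mem_iff.mpr (List.mem_cons_of_mem _ hS))
    have hrec := decomposition_unique hl hn (Biprod.isoElim e')
    have hc : cls a = cls T := Quotient.sound ⟨asIso (biprod.inl ≫ e'.hom ≫ biprod.fst)⟩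
    refine List.Perm.trans ?_ (hp.map cls).symm
    rw [List.map_cons, List.map_cons, hc]
    exact hrec.cons _

/-- Uniqueness, indexed by `Fin`. -/
theorem exists_equiv {n m : ℕ} {Fs : Fin n → C} {Gs : Fin m → C} (hF : ∀ i, Good (Fs i))
    (hG : ∀ j, Good (Gs j)) (e : (∐ Fs) ≅ ∐ Gs) :
    ∃ σ : Fin n ≃ Fin m, ∀ i, Nonempty (Fs i ≅ Gs (σ i)) := by
  classical
  have hp := decomposition_unique (l := List.ofFn Fs) (l' := List.ofFn Gs)
    (fun S hS => by obtain ⟨i, rfl⟩ := List.mem_ofFn.1 hS; exact hF i)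
    (fun S hS => by obtain ⟨i, rfl⟩ := List.mem_ofFn.1 hS; exact hG i)
    ((bsum_ofFn Fs).some ≪≫ e ≪≫ (bsum_ofFn Gs).some.symm)
  have hc : ∀ c : Cls C, Fintype.card {i : Fin n // cls (Fs i) = c} =
      Fintype.card {j : Fin m // cls (Gs j) = c} := fun c => by
    have := hp.count_eq c
    rw [List.map_ofFn, List.map_ofFn] at this
    simp only [List.count_eq_countP, List.countP_eq_length_filter] at this
    have key : ∀ {r : ℕ} (F : Fin r → Cls C),
        ((List.ofFn F).filter (· == c)).length = Fintype.card {i : Fin r // F i = c} := fun {r} F => by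
      rw [List.ofFn_eq_map, List.filter_map, List.length_map, Fintype.card_subtype,
        ← List.toFinset_card_of_nodup ((List.nodup_finRange r).filter _)]
      congr 1
      ext i
      simp
    rw [key, key] at this
    exact this
  let σ : Fin n ≃ Fin m := Equiv.ofFiberEquiv fun c => Fintype.equivOfCardEq (hc c)
  exact ⟨σ, fun i => Quotient.exact (s := isIsomorphicSetoid C) (a := Fs i) (b := Gs (σ i))
    ((Equiv.ofFiberEquiv_map (f := fun i => cls (Fs i)) (g := fun j => cls (Gs j))
      (fun c => Fintype.equivOfCardEq (hc c)) i).symm : cls (Fs i) = cls (Gs (σ i)))⟩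

/-- Existence: the dimension of the endomorphisms decreases on a proper summand. -/
theorem exists_decomposition {k : Type w} [Field k] [Linear k C] (P : C → Prop)
    (hfin : ∀ M, P M → FiniteDimensional k (M ⟶ M))
    (hret : ∀ M A B, P M → (M ≅ A ⊞ B) → P A) :
    ∀ (M : C), P M → ∃ l : List C, (∀ S ∈ l, Good S) ∧ Nonempty (M ≅ bsum l) := by
  intro M hM
  generalize hn : Module.finrank k (M ⟶ M) = n
  induction n using Nat.strong_induction_on generalizing M with
  | _ n ih =>
  haveI := hfin M hM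
  by_cases h0 : IsZero M
  · exact ⟨[], by simp, ⟨h0.iso (isZero_zero C)⟩⟩
  by_cases hi : Ind M
  · exact ⟨[M], fun S hS => by rw [List.mem_singleton] at hS; exact hS ▸ good_of_finite (k := k) hi,
      ⟨isoBiprodZero (isZero_zero C)⟩⟩
  simp only [Ind, h0, not_false_eq_true, true_and, not_forall, not_or] at hi
  obtain ⟨A, B, ⟨e⟩, hA, hB⟩ := hi
  have pA := hret M A B hM e
  have pB := hret M B A hM (e ≪≫ biprod.braiding A B)
  haveI := hfin A pA
  haveI := hfin B pB
  let L : ((A ⟶ A) × (B ⟶ B)) →ₗ[k] (M ⟶ M) :=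
    { toFun := fun p => e.hom ≫ (biprod.fst ≫ p.1 ≫ biprod.inl + biprod.snd ≫ p.2 ≫ biprod.inr) ≫ e.inv
      map_add' := fun p q => by simp; abel
      map_smul' := fun c p => by simp }
  have hL : Function.Injective L := by
    intro p q hpq
    have h : ∀ r : (A ⟶ A) × (B ⟶ B),
        biprod.inl ≫ e.inv ≫ L r ≫ e.hom ≫ biprod.fst = r.1 ∧
          biprod.inr ≫ e.inv ≫ L r ≫ e.hom ≫ biprod.snd = r.2 := fun r => by
      constructor <;> simp [L]
    exact Prod.ext ((h p).1.symm.trans (hpq ▸ (h q).1)) ((h p).2.symm.trans (hpq ▸ (h q).2))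
  have hdim := LinearMap.finrank_le_finrank_of_injective hL
  rw [Module.finrank_prod, hn] at hdim
  have pos : ∀ S : C, ¬ IsZero S → FiniteDimensional k (S ⟶ S) → 0 < Module.finrank k (S ⟶ S) :=
    fun S hS _ => Module.finrank_pos_iff_exists_ne_zero.mpr
      ⟨𝟙 S, fun h => hS ((IsZero.iff_id_eq_zero S).mpr h)⟩
  have := pos A hA inferInstance
  have := pos B hB inferInstance
  obtain ⟨lA, hlA, ⟨eA⟩⟩ := ih _ (by omega) A pA rfl
  obtain ⟨lB, hlB, ⟨eB⟩⟩ := ih _ (by omega) B pB rfl
  exact ⟨lA ++ lB, fun S hS => (List.mem_append.mp hS).elim (hlA S) (hlB S),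
    ⟨e ≪≫ biprod.mapIso eA eB ≪≫ (bsum_append lA lB).some⟩⟩

end Groth.Agent.Lib.CohDelta.KS
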